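import Cfsg.Agent.H704.S8.Defs
import Cfsg.Agent.H142.AN.E1
import Cfsg.Agent.H348.PPD.Dich
import Cfsg.Agent.H681.SimpleChar

/-!
# S4908: the end (helper515)

`ending` : a finite group `G` with the degrees of an almost simple group `H`, `Inn X ≤ H ≤ Aut X`, `|Out X| ≤ 2`, and
with a normal subgroup `N ≅ X` satisfies `G' ≅ X`, `G / Z(G) ≅ H` provided that the sets of degrees of `X` and `Aut X`
are not contained in one another (if `|Out X| = 2`).
-/

set_option autoImplicit false

open scoped ComplexConjugate commutatorElement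

namespace Cfsg.Agent.H515.S8

open Cfsg Cfsg.Agent.Characters.Core Cfsg.Agent.H424.DegTools
open Cfsg.Agent.H142.AN (comm_of_degrees exists_prod exists_max)

universe u v

/-- almost simple groups `X`, `X.2` have no irreducible character of degree two -/
theorem two_notMem {Y : Type u} [Group Y] [Finite Y] (S : Subgroup Y) [S.Normal] [IsSimpleGroup S]
    (hna : ¬ IsMulCommutative S) (hi : S.index ≤ 2) : 2 ∉ charDegrees Y := by
  classical
  intro h2
  obtain ⟨χ, hχ, hχ1⟩ := mem_charDegrees.1 h2
  have hna' : ¬ ∀ a b : S, a * b = b * a := fun h => hna ⟨⟨h⟩⟩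
  have := Fintype.ofFinite Y
  have := Fintype.ofFinite S
  have := finite_irr (G := S)
  have := Fintype.ofFinite (IrrCharacter S)
  have hχ1 : χ 1 = 2 := by rw [hχ1]; norm_num
  obtain ⟨m, hm⟩ := exists_nat_comb (isCharacter_comp S.subtype (isIrr_isCharacter hχ))
  have hval : ∀ s : S, χ s = ∑ θ : IrrCharacter S, (m θ : ℂ) * (θ : S → ℂ) s := by
    intro s
    have h3 := congrFun hm s
    simpa [Finset.sum_apply] using h3
  have hone : ∀ θ : IrrCharacter S, m θ ≠ 0 → (θ : S → ℂ) = 1 := by
    intro θ hθ
    have h3 : charDegree (θ : S → ℂ) ≤ 2 := by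
      have h4 := hval 1
      rw [OneMemClass.coe_one, hχ1] at h4
      have h5 : ((2 : ℕ) : ℂ) = ((∑ θ : IrrCharacter S, m θ * charDegree (θ : S → ℂ) : ℕ) : ℂ) := by
        push_cast
        rw [h4]
        exact Finset.sum_congr rfl fun θ _ => by rw [Blocks.Basic.irr_one_eq_charDegree θ.2]
      have h6 : 2 = ∑ θ : IrrCharacter S, m θ * charDegree (θ : S → ℂ) := by exact_mod_cast h5
      have h7 : m θ * charDegree (θ : S → ℂ) ≤ 2 := by
        rw [h6]
        exact Finset.single_le_sum (f := fun θ : IrrCharacter S => m θ * charDegree (θ : S → ℂ))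
          (fun _ _ => Nat.zero_le _) (Finset.mem_univ θ)
      nlinarith [Nat.pos_of_ne_zero hθ, Nat.zero_le (charDegree (θ : S → ℂ))]
    have h4 : charDegree (θ : S → ℂ) ≠ 2 := fun h =>
      H681.SimpleChar.degree_ne_two hna' ⟨θ, h⟩
    have h5 : charDegree (θ : S → ℂ) ≠ 0 := by
      intro h
      apply isIrr_apply_one_ne_zero θ.2
      rw [Blocks.Basic.irr_one_eq_charDegree θ.2, h]; norm_num
    have h6 : charDegree (θ : S → ℂ) = 1 := by omega
    exact H681.SimpleChar.eq_one_of_degree_one hna' θ.2 (by
      rw [Blocks.Basic.irr_one_eq_charDegree θ.2, h6]; norm_num)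
  have hconst : ∀ s : S, χ s = 2 := by
    intro s
    rw [← hχ1, ← OneMemClass.coe_one S, hval, hval]
    refine Finset.sum_congr rfl fun θ _ => ?_
    by_cases hθ : m θ = 0
    · rw [hθ]; simp
    · rw [hone θ hθ]; rfl
  have h3 := classInner_irr_self hχ
  rw [classInner_def] at h3
  have h4 : ∑ g : Y, χ g * conj (χ g) = (Nat.card Y : ℂ) := by
    have h5 : (Nat.card Y : ℂ) ≠ 0 := by exact_mod_cast Nat.card_pos.ne'
    field_simp at h3
    exact h3
  have h5 : ∑ g : Y, Complex.normSq (χ g) = (Nat.card Y : ℝ) := by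
    have h6 : ∀ g : Y, χ g * conj (χ g) = (Complex.normSq (χ g) : ℂ) := fun g => Complex.mul_conj _
    rw [Finset.sum_congr rfl fun g _ => h6 g, ← Complex.ofReal_sum] at h4
    exact_mod_cast h4
  have h6 : (Nat.card S : ℝ) * 4 ≤ ∑ g : Y, Complex.normSq (χ g) := by
    have h7 : ∑ g ∈ Finset.univ.filter (fun g : Y => g ∈ S), Complex.normSq (χ g) = (Nat.card S : ℝ) * 4 := by
      have h8 : ∀ g ∈ Finset.univ.filter (fun g : Y => g ∈ S), Complex.normSq (χ g) = 4 := by
        intro g hg
        rw [hconst ⟨g, (Finset.mem_filter.1 hg).2⟩]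
        norm_num [Complex.normSq_apply]
      rw [Finset.sum_congr rfl h8, Finset.sum_const, nsmul_eq_mul]
      congr 2
      rw [Nat.card_eq_fintype_card, Fintype.card_subtype]
    rw [← h7]
    exact Finset.sum_le_sum_of_subset_of_nonneg (Finset.filter_subset _ _) fun g _ _ => Complex.normSq_nonneg _
  rw [h5] at h6
  have h7 : Nat.card Y ≤ Nat.card S * 2 := by
    rw [← Subgroup.card_mul_index S]
    exact Nat.mul_le_mul_left _ hi
  have h8 : (Nat.card Y : ℝ) ≤ Nat.card S * 2 := by exact_mod_cast h7
  have h9 : (0 : ℝ) < Nat.card S := by exact_mod_cast Nat.card_pos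
  linarith

theorem or_top {A : Type u} [Group A] [Finite A] {I K : Subgroup A} (h : I.index ≤ 2) (hIK : I ≤ K) :
    K = I ∨ K = ⊤ := by
  have h1 := Subgroup.relIndex_mul_index hIK
  have h2 : 0 < I.relIndex K := Nat.pos_of_ne_zero Subgroup.FiniteIndex.index_ne_zero
  have h3 : 0 < K.index := Nat.pos_of_ne_zero Subgroup.FiniteIndex.index_ne_zero
  rcases Nat.lt_or_ge (I.relIndex K) 2 with h4 | h4
  · left
    exact le_antisymm (Subgroup.relIndex_eq_one.1 (by omega)) hIK
  · right
    apply Subgroup.index_eq_one.1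
    nlinarith

/-- the action of `G` on `N ≅ X` -/
theorem exists_pi {X : Type v} [Group X] {G : Type u} [Group G] (N : Subgroup G) [N.Normal] (e : N ≃* X) :
    ∃ π : G →* MulAut X, (∀ x : N, π x = MulAut.conj (e x)) ∧ ∀ g, π g = 1 ↔ ∀ x ∈ N, g * x = x * g := by
  refine ⟨(MulAut.congr e).toMonoidHom.comp MulAut.conjNormal, fun x => ?_, fun g => ?_⟩
  · apply MulEquiv.ext
    intro y
    change e (MulAut.conjNormal (x : G) (e.symm y)) = e x * y * (e x)⁻¹
    have h1 : MulAut.conjNormal (x : G) (e.symm y) = x * e.symm y * x⁻¹ := Subtype.ext (by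
      rw [MulAut.conjNormal_apply]; rfl)
    rw [h1, map_mul, map_mul, e.apply_symm_apply, map_inv]
  · constructor
    · intro h x hx
      have h1 := DFunLike.congr_fun h (e ⟨x, hx⟩)
      change e (MulAut.conjNormal g (e.symm (e ⟨x, hx⟩))) = e ⟨x, hx⟩ at h1
      rw [e.symm_apply_apply] at h1
      have h2 := congrArg Subtype.val (e.injective h1)
      rw [MulAut.conjNormal_apply] at h2
      change g * x * g⁻¹ = x at h2
      calc g * x = g * x * g⁻¹ * g := by group
        _ = x * g := by rw [h2]
    · intro h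
      apply MulEquiv.ext
      intro y
      change e (MulAut.conjNormal g (e.symm y)) = y
      have h1 : MulAut.conjNormal g (e.symm y) = e.symm y := Subtype.ext (by
        rw [MulAut.conjNormal_apply, h _ (e.symm y).2, mul_inv_cancel_right])
      rw [h1, e.apply_symm_apply]

theorem perfect_of_simple {S : Type u} [Group S] [IsSimpleGroup S] (hna : ¬ IsMulCommutative S) : commutator S = ⊤ := by
  rcases (inferInstance : (commutator S).Normal).eq_bot_or_eq_top with h | h
  · exfalso
    apply hna
    refine ⟨⟨fun a b => ?_⟩⟩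
    have h2 : ⁅a, b⁆ ∈ commutator S := by
      rw [_root_.commutator_def]
      exact Subgroup.commutator_mem_commutator (Subgroup.mem_top a) (Subgroup.mem_top b)
    rw [h, Subgroup.mem_bot, commutatorElement_eq_one_iff_mul_comm] at h2
    exact h2
  · exact h

theorem conj_injective {X : Type v} [Group X] [IsSimpleGroup X] (hX : ¬ IsMulCommutative X) :
    Function.Injective (MulAut.conj : X →* MulAut X) := by
  rw [injective_iff_map_eq_one]
  intro x hx
  apply H681.SimpleChar.eq_one_of_central (fun h => hX ⟨⟨h⟩⟩)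
  intro y
  have h1 := DFunLike.congr_fun hx y
  change x * y * x⁻¹ = y at h1
  calc x * y = x * y * x⁻¹ * x := by group
    _ = y * x := by rw [h1]

/-- the structure of `G`: `G' = N`, the centre is the kernel of the action on `N ≅ X` -/
theorem core {X : Type v} [Group X] [Finite X] [IsSimpleGroup X] (hX : ¬ IsMulCommutative X)
    (hIi : (MulAut.conj : X →* MulAut X).range.index ≤ 2)
    (H : Subgroup (MulAut X)) (hH : (MulAut.conj : X →* MulAut X).range ≤ H)
    {G : Type u} [Group G] [Finite G] (h : charDegrees G = charDegrees ↥H) (N : Subgroup G) [N.Normal] (e : N ≃* X) :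
    ∃ π : G →* MulAut X, (∀ x : N, π x = MulAut.conj (e x)) ∧ (MulAut.conj : X →* MulAut X).range ≤ π.range ∧
      commutator G = N ∧ Subgroup.center G = π.ker ∧ ∀ x y : G ⧸ N, x * y = y * x := by
  classical
  obtain ⟨π, hπ, hπ1⟩ := exists_pi N e
  set I : Subgroup (MulAut X) := (MulAut.conj : X →* MulAut X).range with hI
  have hIn : I.Normal := by
    refine ⟨fun a ha g => ?_⟩
    obtain ⟨x, rfl⟩ := ha
    refine ⟨g x, ?_⟩
    apply MulEquiv.ext
    intro y
    change g x * y * (g x)⁻¹ = g (x * g⁻¹ y * x⁻¹)
    rw [map_mul, map_mul, map_inv, MulAut.apply_inv_self]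
  have hfin : Finite (MulAut X) := inferInstance
  -- `Inn X` is simple
  have hcinj := conj_injective hX
  let ec : X ≃* I := MonoidHom.ofInjective hcinj
  have hIs : ∀ K : Subgroup (MulAut X), I ≤ K → Nonempty (X ≃* I.subgroupOf K) := fun K hK =>
    ⟨ec.trans (Subgroup.subgroupOfEquivOfLe hK).symm⟩
  have hHi : (I.subgroupOf H).index ≤ 2 := by
    have h1 := Subgroup.relIndex_mul_index hH
    have h3 : 0 < H.index := Nat.pos_of_ne_zero Subgroup.FiniteIndex.index_ne_zero
    change I.relIndex H ≤ 2
    nlinarith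
  have h2H : 2 ∉ charDegrees ↥H := by
    obtain ⟨eh⟩ := hIs H hH
    have : IsSimpleGroup ↥(I.subgroupOf H) := eh.symm.isSimpleGroup
    refine two_notMem (I.subgroupOf H) (fun hcon => hX ⟨⟨fun a b => ?_⟩⟩) hHi
    apply eh.injective
    rw [map_mul, map_mul]
    exact hcon.is_comm.comm _ _
  -- the largest degree
  obtain ⟨b, hb, hmax⟩ := exists_max (G := X)
  have hb0 := pos_of_mem hb
  have hle2 : ∀ d ∈ charDegrees G, d ≤ 2 * b := by
    intro d hd
    rw [h] at hd
    obtain ⟨eh⟩ := hIs H hH
    obtain ⟨a, ha, had, hq⟩ := clifford_down (I.subgroupOf H) hd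
    rw [← charDegrees_congr eh] at ha
    have h1 := hmax a ha
    have h2 := Nat.le_of_dvd (Nat.pos_of_ne_zero Subgroup.FiniteIndex.index_ne_zero) hq
    calc d = a * (d / a) := (Nat.mul_div_cancel' had).symm
      _ ≤ b * 2 := Nat.mul_le_mul h1 (h2.trans hHi)
      _ = 2 * b := mul_comm _ _
  have h2G : 2 ∉ charDegrees G := by rw [h]; exact h2H
  have hsub : charDegrees (G ⧸ N) ⊆ charDegrees G :=
    charDegrees_of_surjective (QuotientGroup.mk' N) (QuotientGroup.mk'_surjective N)
  have hle : I ≤ π.range := by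
    rintro _ ⟨y, rfl⟩
    refine ⟨(e.symm y : N), ?_⟩
    rw [hπ, e.apply_symm_apply]
  have hpN : ∀ x ∈ N, π x ∈ I := fun x hx => ⟨e ⟨x, hx⟩, (hπ ⟨x, hx⟩).symm⟩
  have hinj : ∀ g ∈ N, π g = 1 → g = 1 := by
    intro g hg h1
    have h4 := hπ ⟨g, hg⟩
    rw [show ((⟨g, hg⟩ : N) : G) = g from rfl, h1] at h4
    have h5 : e ⟨g, hg⟩ = 1 := hcinj (by rw [← h4, map_one])
    have h6 := (map_eq_one_iff e e.injective).1 h5
    exact congrArg Subtype.val h6
  -- `G / N` is abelian
  have hI1 : ∀ x : MulAut X, ∀ hx : x ∈ I, MulAut.conj (ec.symm ⟨x, hx⟩) = x := by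
    intro x hx
    exact congrArg Subtype.val (ec.apply_symm_apply ⟨x, hx⟩)
  have hcomm : ∀ x y : G ⧸ N, x * y = y * x := by
    have hcase : π.range = I ∨ (I.index = 2 ∧ Function.Surjective π) := by
      rcases or_top hIi hle with hr | hr
      · exact Or.inl hr
      · rcases Nat.lt_or_ge I.index 2 with h1 | h1
        · left
          have h2 : 0 < I.index := Nat.pos_of_ne_zero Subgroup.FiniteIndex.index_ne_zero
          rw [hr, Subgroup.index_eq_one.1 (show I.index = 1 by omega)]
        · exact Or.inr ⟨le_antisymm hIi h1, MonoidHom.range_eq_top.1 hr⟩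
    rcases hcase with hr | ⟨hI2, hsurj⟩
    · -- `G = N C(N)`
      have hpi : ∀ g, π g ∈ I := fun g => by rw [← hr]; exact ⟨g, rfl⟩
      let p : G →* X := ec.symm.toMonoidHom.comp (π.codRestrict I hpi)
      have hp : ∀ x : N, p x = e x := by
        intro x
        apply ec.injective
        apply Subtype.ext
        change ((ec (ec.symm (π.codRestrict I hpi x))) : MulAut X) = MulAut.conj (e x)
        rw [ec.apply_symm_apply, ← hπ]
        rfl
      obtain ⟨E⟩ := exists_prod N p (by
        intro x y hxy
        apply e.injective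
        rw [← hp, ← hp]
        exact hxy) (by
        intro y
        refine ⟨e.symm y, ?_⟩
        change p (e.symm y : N) = _
        rw [hp, e.apply_symm_apply])
      apply comm_of_degrees
      intro d hd
      have h1 : b * d ∈ charDegrees G := by
        rw [charDegrees_congr E]
        exact mul_mem_prod hb hd
      have h2 := hle2 _ h1
      have h3 : d ≤ 2 := Nat.le_of_mul_le_mul_left (by rwa [mul_comm 2 b] at h2) hb0
      have h4 := pos_of_mem hd
      have h5 : d ≠ 2 := fun h6 => h2G (h6 ▸ hsub hd)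
      omega
    · set L := I.comap π with hL
      have hLn : L.Normal := by rw [hL]; infer_instance
      have hLi : L.index = 2 := by
        rw [hL, Subgroup.index_comap_of_surjective _ hsurj]
        exact hI2
      have hNL : N ≤ L := fun x hx => by
        rw [hL, Subgroup.mem_comap]
        exact hpN x hx
      let p : L →* X := ec.symm.toMonoidHom.comp ((π.comp L.subtype).codRestrict I fun g => g.2)
      have hp0 : ∀ x : L, MulAut.conj (p x) = π x := fun x => hI1 _ x.2
      have hp : ∀ (x : G) (hx : x ∈ N), p ⟨x, hNL hx⟩ = e ⟨x, hx⟩ := by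
        intro x hx
        apply hcinj
        rw [hp0, ← hπ]
      obtain ⟨E⟩ := exists_prod (N.subgroupOf L) p (by
        rintro ⟨x, hx⟩ ⟨y, hy⟩ hxy
        have h1 : p x = p y := hxy
        have hx' : (x : G) ∈ N := hx
        have hy' : (y : G) ∈ N := hy
        have h4 : e ⟨x, hx'⟩ = e ⟨y, hy'⟩ := by
          rw [← hp, ← hp]
          exact h1
        have h5 := congrArg Subtype.val (e.injective h4)
        exact Subtype.ext (Subtype.ext h5)) (by
        intro y
        refine ⟨⟨⟨(e.symm y : N), hNL (e.symm y).2⟩, (e.symm y).2⟩, ?_⟩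
        change p ⟨(e.symm y : N), hNL (e.symm y).2⟩ = _
        rw [hp]
        exact e.apply_symm_apply y)
      have hcommH : ∀ x y : L ⧸ N.subgroupOf L, x * y = y * x := by
        apply comm_of_degrees
        intro c hc
        obtain ⟨θ, hθ, hθ1⟩ := mem_charDegrees.1 hb
        obtain ⟨μ, hμ, hμ1⟩ := mem_charDegrees.1 hc
        obtain ⟨g0, hg0⟩ : ∃ g0 : G, g0 ∉ L := by
          by_contra hcon
          push Not at hcon
          have h1 : L = ⊤ := (Subgroup.eq_top_iff' L).2 hcon
          rw [h1, Subgroup.index_top] at hLi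
          norm_num at hLi
        let F : L →* X × (L ⧸ N.subgroupOf L) := p.prod (QuotientGroup.mk' (N.subgroupOf L))
        have hF : Function.Surjective F := by
          rintro ⟨x, q⟩
          obtain ⟨g, rfl⟩ := QuotientGroup.mk_surjective q
          refine ⟨g * ⟨(e.symm ((p g)⁻¹ * x) : N), hNL (e.symm _).2⟩, Prod.ext ?_ ?_⟩
          · change p (g * ⟨(e.symm ((p g)⁻¹ * x) : N), hNL (e.symm _).2⟩) = x
            rw [map_mul, hp _ (e.symm _).2]
            change p g * e (e.symm ((p g)⁻¹ * x)) = x
            rw [e.apply_symm_apply, mul_inv_cancel_left]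
          · change (QuotientGroup.mk (g * ⟨(e.symm ((p g)⁻¹ * x) : N), hNL (e.symm _).2⟩) : L ⧸ N.subgroupOf L) =
              QuotientGroup.mk g
            rw [QuotientGroup.mk_mul_of_mem]
            exact (e.symm ((p g)⁻¹ * x)).2
        have hψ : IsIrrCharacter L ((fun x : X × (L ⧸ N.subgroupOf L) => θ x.1 * μ x.2) ∘ F) :=
          isIrr_comp F hF (S0188.isIrr_outer hθ hμ)
        have hψv : ∀ g : L, ((fun x : X × (L ⧸ N.subgroupOf L) => θ x.1 * μ x.2) ∘ F) g =
          θ (p g) * μ (QuotientGroup.mk g) := fun _ => rfl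
        have hψ1 : ((fun x : X × (L ⧸ N.subgroupOf L) => θ x.1 * μ x.2) ∘ F) 1 = (b * c : ℕ) := by
          rw [hψv, map_one, QuotientGroup.mk_one, hθ1, hμ1]
          push_cast; rfl
        have hθ0 : θ 1 ≠ 0 := isIrr_apply_one_ne_zero hθ
        have hc0 := pos_of_mem hc
        rcases H348.PPD.Dich.dich L hLi hψ with ⟨χ, hχ, hχe⟩ | ⟨χ, hχ, -, hχm⟩
        · have h1 : b * c ∈ charDegrees G := by
            refine mem_charDegrees.2 ⟨χ, hχ, ?_⟩
            have h2 := hχe 1
            rw [OneMemClass.coe_one] at h2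
            rw [h2, hψ1]
          have h2 := hle2 _ h1
          have h3 : c ≤ 2 := Nat.le_of_mul_le_mul_left (by rwa [mul_comm 2 b] at h2) hb0
          by_contra hcon
          have h4 : c = 2 := by omega
          have hz : ∀ z : L, p z = 1 → ∀ g : G, μ (QuotientGroup.mk (MulAut.conjNormal g z)) = μ (QuotientGroup.mk z) := by
            intro z hz g
            have h5 : p (MulAut.conjNormal g z) = 1 := by
              apply hcinj
              rw [hp0, MulAut.conjNormal_apply, map_mul, map_mul, map_inv, ← hp0, hz, map_one, mul_one, mul_inv_cancel]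
            have h6 : χ (g * z * g⁻¹) = χ z := isIrr_isClassFunction hχ _ _
            have h7 := hχe (MulAut.conjNormal g z)
            have h8 := hχe z
            rw [hψv, h5] at h7
            rw [hψv, hz] at h8
            rw [MulAut.conjNormal_apply, h6, h8] at h7
            exact (mul_left_cancel₀ hθ0 h7).symm
          have hinv : ∀ (g : G) (x : L), μ (QuotientGroup.mk (MulAut.conjNormal g x)) = μ (QuotientGroup.mk x) := by
            intro g x
            let n : L := ⟨(e.symm (p x) : N), hNL (e.symm _).2⟩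
            have hn : n ∈ N.subgroupOf L := (e.symm (p x)).2
            have hpn : p n = p x := by
              change p ⟨(e.symm (p x) : N), hNL (e.symm _).2⟩ = p x
              rw [hp _ (e.symm _).2]
              exact e.apply_symm_apply _
            have h5 : p (n⁻¹ * x) = 1 := by rw [map_mul, map_inv, hpn, inv_mul_cancel]
            have h6 := hz _ h5 g
            have h7 : (QuotientGroup.mk (n⁻¹ * x) : L ⧸ N.subgroupOf L) = QuotientGroup.mk x := by
              rw [QuotientGroup.mk_mul, QuotientGroup.mk_inv, (QuotientGroup.eq_one_iff n).2 hn, inv_one, one_mul]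
            have h8 : (QuotientGroup.mk (MulAut.conjNormal g (n⁻¹ * x)) : L ⧸ N.subgroupOf L) =
                QuotientGroup.mk (MulAut.conjNormal g x) := by
              have h9 : MulAut.conjNormal g n ∈ N.subgroupOf L := by
                rw [Subgroup.mem_subgroupOf, MulAut.conjNormal_apply]
                exact (inferInstance : N.Normal).conj_mem _ hn g
              rw [map_mul, map_inv, QuotientGroup.mk_mul, QuotientGroup.mk_inv, (QuotientGroup.eq_one_iff _).2 h9,
                inv_one, one_mul]
            rw [h7, h8] at h6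
            exact h6
          have hirr : IsIrrCharacter L (μ ∘ (QuotientGroup.mk' (N.subgroupOf L))) :=
            isIrr_comp _ (QuotientGroup.mk'_surjective _) hμ
          rcases H348.PPD.Dich.dich L hLi hirr with ⟨η, hη, hηe⟩ | ⟨η, hη, -, hηm⟩
          · apply h2G
            refine mem_charDegrees.2 ⟨η, hη, ?_⟩
            have h5 := hηe 1
            rw [OneMemClass.coe_one] at h5
            rw [h5, Function.comp_apply, map_one, hμ1, h4]
          · apply (hηm g0 hg0).2
            funext x
            exact hinv g0 x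
        · have h1 : 2 * (b * c) ∈ charDegrees G := by
            refine mem_charDegrees.2 ⟨χ, hχ, ?_⟩
            have h2 := (hχm g0 hg0).1 1
            rw [OneMemClass.coe_one, map_one, hψ1] at h2
            rw [h2]
            push_cast; ring
          have h2 := hle2 _ h1
          have h3 : c ≤ 1 := by
            by_contra hcon
            have h4 : 2 ≤ c := by omega
            nlinarith
          omega
      apply comm_of_degrees
      intro c hc
      have h1 : c ∈ charDegrees G := hsub hc
      have h2 : c ∣ (L.map (QuotientGroup.mk' N)).index := by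
        have : (L.map (QuotientGroup.mk' N)).Normal := hLn.map _ (QuotientGroup.mk'_surjective N)
        refine ito hc _ ?_
        rintro _ ⟨x, hx, rfl⟩ _ ⟨y, hy, rfl⟩
        have h3 := hcommH (QuotientGroup.mk (⟨x, hx⟩ : L)) (QuotientGroup.mk (⟨y, hy⟩ : L))
        rw [← QuotientGroup.mk_mul, ← QuotientGroup.mk_mul, QuotientGroup.eq] at h3
        rw [← map_mul, ← map_mul]
        exact QuotientGroup.eq.2 h3
      have h3 : (L.map (QuotientGroup.mk' N)).index ∣ 2 := by
        rw [← hLi]
        exact Subgroup.index_map_dvd _ (QuotientGroup.mk'_surjective N)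
      have h4 := Nat.le_of_dvd (by norm_num) (h2.trans h3)
      have h5 := pos_of_mem hc
      have h6 : c ≠ 2 := fun h7 => h2G (h7 ▸ h1)
      omega
  -- the commutator subgroup
  have hNs : IsSimpleGroup N := e.isSimpleGroup
  have hNna : ¬ IsMulCommutative N := fun hcon => hX ⟨⟨fun x y => by
    apply e.symm.injective
    rw [map_mul, map_mul]
    exact hcon.is_comm.comm _ _⟩⟩
  have hcN : commutator G = N := by
    apply le_antisymm
    · rw [_root_.commutator_def, Subgroup.commutator_le]
      intro x _ y _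
      have h1 := hcomm (QuotientGroup.mk x) (QuotientGroup.mk y)
      rw [← QuotientGroup.mk_mul, ← QuotientGroup.mk_mul, eq_comm, QuotientGroup.eq] at h1
      have h2 := (inferInstance : N.Normal).conj_mem _ h1 (y * x)
      have h3 : y * x * ((y * x)⁻¹ * (x * y)) * (y * x)⁻¹ = ⁅x, y⁆ := by
        rw [commutatorElement_def]; group
      rwa [h3] at h2
    · have h2 := Subgroup.map_subtype_commutator N
      rw [perfect_of_simple hNna, ← MonoidHom.range_eq_map, Subgroup.range_subtype] at h2
      rw [_root_.commutator_def]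
      calc N = ⁅N, N⁆ := h2
        _ ≤ _ := Subgroup.commutator_mono le_top le_top
  -- the centre
  have hcen : Subgroup.center G = π.ker := by
    ext z
    rw [Subgroup.mem_center_iff, MonoidHom.mem_ker, hπ1]
    constructor
    · intro hz x _
      exact (hz x).symm
    · intro hz g
      have h1 : g * z * g⁻¹ * z⁻¹ ∈ N := by
        have h2 := hcomm (QuotientGroup.mk g) (QuotientGroup.mk z)
        rw [← QuotientGroup.mk_mul, ← QuotientGroup.mk_mul, eq_comm, QuotientGroup.eq] at h2
        have h3 := (inferInstance : N.Normal).conj_mem _ h2 (z * g)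
        have h4 : z * g * ((z * g)⁻¹ * (g * z)) * (z * g)⁻¹ = g * z * g⁻¹ * z⁻¹ := by group
        rwa [h4] at h3
      have h2 : π z = 1 := (hπ1 z).2 hz
      have h3 : π (g * z * g⁻¹ * z⁻¹) = 1 := by
        rw [map_mul, map_mul, map_mul, map_inv, map_inv, h2, mul_one, inv_one, mul_one, mul_inv_cancel]
      have h4 := hinj _ h1 h3
      calc g * z = (g * z * g⁻¹ * z⁻¹) * (z * g) := by group
        _ = z * g := by rw [h4, one_mul]
  exact ⟨π, hπ, hle, hcN, hcen, hcomm⟩

/-- **the end of S4908** -/
theorem ending {X : Type v} [Group X] [Finite X] [IsSimpleGroup X] (hX : ¬ IsMulCommutative X) {c : ℕ} (hc : c ≤ 2)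
    (hout : H704.S8.OutRow c X) (H : Subgroup (MulAut X)) (hH : (MulAut.conj : X →* MulAut X).range ≤ H)
    {G : Type u} [Group G] [Finite G] (h : charDegrees G = charDegrees ↥H) (N : Subgroup G) [N.Normal] (e : N ≃* X) :
    Nonempty (↥(commutator G) ≃* X) ∧ Nonempty (G ⧸ Subgroup.center G ≃* ↥H) := by
  classical
  obtain ⟨ho1, ho2⟩ := hout
  have hIi := ho1.trans hc
  obtain ⟨π, hπ, hle, hcN, hcen, hcomm⟩ := core hX hIi H hH h N e
  set I : Subgroup (MulAut X) := (MulAut.conj : X →* MulAut X).range with hI
  -- the image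
  have hdX : charDegrees ↥I = charDegrees X :=
    (charDegrees_congr (MonoidHom.ofInjective (f := (MulAut.conj : X →* MulAut X)) (conj_injective hX))).symm
  have hdT : charDegrees ↥(⊤ : Subgroup (MulAut X)) = charDegrees (MulAut X) :=
    charDegrees_congr Subgroup.topEquiv
  have hrG : charDegrees ↥π.range ⊆ charDegrees G :=
    charDegrees_of_surjective π.rangeRestrict π.rangeRestrict_surjective
  have hc2 : I ≠ ⊤ → c = 2 := by
    intro h1
    have h2 : I.index ≠ 1 := fun h3 => h1 (Subgroup.index_eq_one.1 h3)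
    have h3 : 0 < I.index := Nat.pos_of_ne_zero Subgroup.FiniteIndex.index_ne_zero
    omega
  have hrH : π.range = H := by
    by_cases hIt : I = ⊤
    · have h1 : π.range = ⊤ := top_le_iff.1 (hIt ▸ hle)
      have h2 : H = ⊤ := top_le_iff.1 (hIt ▸ hH)
      rw [h1, h2]
    · obtain ⟨h3, h4⟩ := ho2 (hc2 hIt)
      rcases or_top hIi hle with hr | hr <;> rcases or_top hIi hH with hr' | hr'
      · rw [hr, hr']
      · exfalso
        apply h3
        rw [← hdX, ← hdT, ← hr', ← h, ← hr]
        exact hrG
      · exfalso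
        apply h4
        rw [← hdX, ← hdT, ← hr', ← h, ← hr]
        exact hrG
      · rw [hr, hr']
  refine ⟨⟨(MulEquiv.subgroupCongr hcN).trans e⟩, ?_⟩
  rw [← hrH]
  exact ⟨(QuotientGroup.quotientMulEquivOfEq hcen).trans (QuotientGroup.quotientKerEquivRange π)⟩

end Cfsg.Agent.H515.S8
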