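import Cfsg.Agent.H515.S8.End

/-!
# S4908: the end, with the weakest condition on the degrees (helper515)

`ending_ne` : as `End.ending`, but only `cd(X) ≠ cd(Aut X)` is needed (`G` embeds into `G/Z(G) × G/N` with `G/N`
abelian, so that `cd(G) = cd(G/Z(G))`).
-/

set_option autoImplicit false

namespace Cfsg.Agent.H515.S8

open Cfsg Cfsg.Agent.Characters.Core Cfsg.Agent.H424.DegTools
open Cfsg.Agent.H142.AN (degrees_of_embed)

universe u v

/-- the degrees of `X` and of `Aut X` are not the same (if `|Out X| = 2`) -/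
def OutNe (c : ℕ) (X : Type v) [Group X] : Prop :=
  (MulAut.conj : X →* MulAut X).range.index ≤ c ∧ (c = 2 → charDegrees X ≠ charDegrees (MulAut X))

theorem OutNe.of_outRow {c : ℕ} {X : Type v} [Group X] (h : H704.S8.OutRow c X) : OutNe c X :=
  ⟨h.1, fun hc he => (h.2 hc).1 he.subset⟩

/-- one degree of `X` which is not a degree of `Aut X` -/
theorem OutNe.of_mem {c : ℕ} {X : Type v} [Group X] (h : (MulAut.conj : X →* MulAut X).range.index ≤ c) {d : ℕ}
    (hd : d ∈ charDegrees X) (hd' : d ∉ charDegrees (MulAut X)) : OutNe c X :=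
  ⟨h, fun _ he => hd' (he ▸ hd)⟩

/-- one degree of `Aut X` which is not a degree of `X` -/
theorem OutNe.of_mem' {c : ℕ} {X : Type v} [Group X] (h : (MulAut.conj : X →* MulAut X).range.index ≤ c) {d : ℕ}
    (hd : d ∈ charDegrees (MulAut X)) (hd' : d ∉ charDegrees X) : OutNe c X :=
  ⟨h, fun _ he => hd' (he ▸ hd)⟩

/-- **the end of S4908** -/
theorem ending_ne {X : Type v} [Group X] [Finite X] [IsSimpleGroup X] (hX : ¬ IsMulCommutative X) {c : ℕ} (hc : c ≤ 2)
    (hout : OutNe c X) (H : Subgroup (MulAut X)) (hH : (MulAut.conj : X →* MulAut X).range ≤ H)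
    {G : Type u} [Group G] [Finite G] (h : charDegrees G = charDegrees ↥H) (N : Subgroup G) [N.Normal] (e : N ≃* X) :
    Nonempty (↥(commutator G) ≃* X) ∧ Nonempty (G ⧸ Subgroup.center G ≃* ↥H) := by
  classical
  obtain ⟨ho1, ho2⟩ := hout
  have hIi := ho1.trans hc
  obtain ⟨π, hπ, hle, hcN, hcen, hcomm⟩ := core hX hIi H hH h N e
  have hcinj := conj_injective hX
  set I : Subgroup (MulAut X) := (MulAut.conj : X →* MulAut X).range with hI
  have hdX : charDegrees ↥I = charDegrees X := (charDegrees_congr (MonoidHom.ofInjective hcinj)).symm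
  have hdT : charDegrees ↥(⊤ : Subgroup (MulAut X)) = charDegrees (MulAut X) :=
    charDegrees_congr Subgroup.topEquiv
  let i1 : CommGroup (G ⧸ N) := { (inferInstance : Group (G ⧸ N)) with mul_comm := hcomm }
  have hrG : charDegrees G = charDegrees ↥π.range := by
    refine degrees_of_embed π.rangeRestrict π.rangeRestrict_surjective (QuotientGroup.mk' N) ?_
    intro g h1 h2
    have h3 : g ∈ N := (QuotientGroup.eq_one_iff g).1 h2
    have h4 := hπ ⟨g, h3⟩
    have h5 : π g = 1 := congrArg Subtype.val h1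
    rw [show ((⟨g, h3⟩ : N) : G) = g from rfl, h5] at h4
    have h6 : e ⟨g, h3⟩ = 1 := hcinj (by rw [← h4, map_one])
    exact congrArg Subtype.val ((map_eq_one_iff e e.injective).1 h6)
  have hrH : π.range = H := by
    by_cases hIt : I = ⊤
    · have h1 : π.range = ⊤ := top_le_iff.1 (hIt ▸ hle)
      have h2 : H = ⊤ := top_le_iff.1 (hIt ▸ hH)
      rw [h1, h2]
    · have hc2 : c = 2 := by
        have h2 : I.index ≠ 1 := fun h3 => hIt (Subgroup.index_eq_one.1 h3)
        have h3 : 0 < I.index := Nat.pos_of_ne_zero Subgroup.FiniteIndex.index_ne_zero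
        omega
      have h3 := ho2 hc2
      rcases or_top hIi hle with hr | hr <;> rcases or_top hIi hH with hr' | hr'
      · rw [hr, hr']
      · exfalso
        apply h3
        rw [← hdX, ← hdT, ← hr', ← h, ← hr]
        exact hrG.symm
      · exfalso
        apply h3
        rw [← hdX, ← hdT, ← hr', ← h, ← hr]
        exact hrG
      · rw [hr, hr']
  refine ⟨⟨(MulEquiv.subgroupCongr hcN).trans e⟩, ?_⟩
  rw [← hrH]
  exact ⟨(QuotientGroup.quotientMulEquivOfEq hcen).trans (QuotientGroup.quotientKerEquivRange π)⟩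

end Cfsg.Agent.H515.S8
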