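import Cfsg.Agent.H515.S8.EndNe
import Cfsg.Agent.H529.S8.Main

/-!
# S4908: END in the form of the assembly (helper515)
-/

set_option autoImplicit false

namespace Cfsg.Agent.H515.S8

open Cfsg

universe u v

theorem ending3 {X : Type v} [Group X] [Finite X] [IsSimpleGroup X] (hX : ¬ IsMulCommutative X) {c : ℕ} (hc : c ≤ 2)
    (hout : H704.S8.OutRow3 c X) : H529.S8.Ending.{u, v} X := by
  intro H hH G _ _ h N _ e
  exact ending_ne hX hc hout H hH h N e

end Cfsg.Agent.H515.S8
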