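import Cfsg.Agent.H515.S8.End
import Cfsg.Agent.H450.S8.Core
import Cfsg.Agent.H690.S8.Soc1
import Cfsg.Agent.H245.S8.SocAltSpec
import Cfsg.Agent.H740.Eight.Tits
import Cfsg.Agent.H489.OutSpor
import Cfsg.Agent.H678.DG.Tits
import Cfsg.Agent.H707.RowTits

/-!
# S4908, SOC1: the row from a numerical description of the degrees (helper515)

`soc1_num` : `Soc1 D X` from `Num D N P` (helper450), a finite test (no prime power passes, the Tits group) and the
sporadic case; the alternating case is helper245's `no_alt`, Lie type is helper690's `lie_none`.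
-/

set_option autoImplicit false

namespace Cfsg.Agent.H515.S8

open Cfsg Cfsg.Agent.H704.S8 Cfsg.Agent.H450.S8
open Cfsg.Agent.H691.AN (AlmostSimple)

universe u v

/-- no prime power different from `2` passes -/
def lieTest (P : ℕ → Bool) (fac : List (ℕ × ℕ)) : Bool :=
  fac.all fun x => (List.range (x.2 + 1)).all fun v => v == 0 || x.1 ^ v == 2 || !P (x.1 ^ v)

/-- the Tits group is excluded -/
def titsTest (N : ℕ) (P : ℕ → Bool) : Bool := N % 13 != 0 || (!P 27 && !P 54)

theorem no_pp {D : Set ℕ} {N : ℕ} {P : ℕ → Bool} (hD : Num D N P) (h2 : 2 ∉ D) {fac : List (ℕ × ℕ)}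
    (hpr : ∀ x ∈ fac, x.1.Prime) (hf : facTest N fac = true) (ht : lieTest P fac = true) {p a : ℕ} (hp : p.Prime)
    (ha : 0 < a) : p ^ a ∉ D := by
  intro h
  rw [facTest, Bool.and_eq_true, List.all_eq_true, decide_eq_true_eq] at hf
  have hd := hD.dvd h
  have hpN : p ∣ N := (dvd_pow_self p ha.ne').trans hd
  obtain ⟨x, hx, hxp⟩ := prime_mem hpr hp (hf.2 ▸ hpN)
  have h3 : ¬ x.1 ^ (x.2 + 1) ∣ N := of_decide_eq_true (hf.1 x hx)
  rw [hxp] at h3
  have h4 : a ≤ x.2 := by
    by_contra hcon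
    exact h3 ((pow_dvd_pow p (by omega)).trans hd)
  rw [lieTest, List.all_eq_true] at ht
  have h5 := ht x hx
  rw [List.all_eq_true] at h5
  have h6 := h5 a (List.mem_range.2 (by omega))
  rw [hxp, hD.ok h, Bool.not_true, Bool.or_false, Bool.or_eq_true, beq_iff_eq, beq_iff_eq] at h6
  rcases h6 with h6 | h6
  · omega
  · exact h2 (h6 ▸ h)

/-- two is not a degree -/
theorem two_notMem_deg {X : Type v} [Group X] [Finite X] [IsSimpleGroup X] (hX : ¬ IsMulCommutative X) {c : ℕ}
    (hc : c ≤ 2) (hi : (MulAut.conj : X →* MulAut X).range.index ≤ c) {D : Set ℕ} (hD : Deg c X D) : 2 ∉ D := by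
  rcases hD with rfl | ⟨-, rfl⟩
  · exact H681.SimpleChar.degree_ne_two fun h => hX ⟨⟨h⟩⟩
  · have hcinj := conj_injective hX
    let e : X ≃* (MulAut.conj : X →* MulAut X).range := MonoidHom.ofInjective hcinj
    have hs : IsSimpleGroup (MulAut.conj : X →* MulAut X).range := e.symm.isSimpleGroup
    have hn : (MulAut.conj : X →* MulAut X).range.Normal := by
      refine ⟨fun a ha g => ?_⟩
      obtain ⟨x, rfl⟩ := ha
      refine ⟨g x, ?_⟩
      apply MulEquiv.ext
      intro y
      change g x * y * (g x)⁻¹ = g (x * g⁻¹ y * x⁻¹)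
      rw [map_mul, map_mul, map_inv, MulAut.apply_inv_self]
    have hfin : Finite (MulAut X) := inferInstance
    refine two_notMem _ (fun hcon => hX ⟨⟨fun a b => ?_⟩⟩) (hi.trans hc)
    apply e.injective
    rw [map_mul, map_mul]
    exact hcon.is_comm.comm _ _

section

variable {A : Type u} [Group A] [Finite A] {S : Subgroup A} (hA : AlmostSimple A S)

include hA

theorem up_deg {a : ℕ} (ha : a ∈ charDegrees S) : ∃ d ∈ charDegrees A, a ∣ d := by
  have := hA.normal
  obtain ⟨e, h3, h4, -⟩ := H424.DegTools.clifford_up S ha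
  exact ⟨e, h3, h4⟩

theorem two_deg (hout : Nat.card (Out S) ≤ 2) {a : ℕ} (ha : a ∈ charDegrees S) :
    a ∈ charDegrees A ∨ 2 * a ∈ charDegrees A := by
  have := hA.normal
  obtain ⟨e, h3, ⟨c, rfl⟩, h5⟩ := H424.DegTools.clifford_up S ha
  have hpos : 0 < a := H424.DegTools.pos_of_mem ha
  rw [Nat.mul_div_cancel_left _ hpos] at h5
  have : Finite (MulAut S) := Finite.of_injective _ (DFunLike.coe_injective (F := MulAut S))
  have h6 : c ∣ Nat.card (Out S) := h5.trans (H816.OutEmb.index_dvd S (by rw [hA.cent]; exact bot_le))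
  have h7 := Nat.le_of_dvd Nat.card_pos h6
  have h8 : c ≠ 0 := by rintro rfl; exact Nat.card_pos.ne' (zero_dvd_iff.1 h6)
  have h9 : c = 1 ∨ c = 2 := by omega
  rcases h9 with rfl | rfl
  · left; rwa [mul_one] at h3
  · right; rwa [mul_comm] at h3

theorem tits_false {N : ℕ} {P : ℕ → Bool} (hP : ∀ d ∈ charDegrees A, P d = true ∧ d ∣ N)
    (ht : titsTest N P = true) (hs : Lie.IsoTits S) : False := by
  rw [titsTest, Bool.or_eq_true, Bool.and_eq_true, Bool.not_eq_true', Bool.not_eq_true', bne_iff_ne] at ht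
  rcases ht with ht | ⟨h1, h2⟩
  · apply ht
    obtain ⟨e⟩ := hs
    obtain ⟨f⟩ := H707.RowTits.equiv
    obtain ⟨d, hd, h13⟩ := up_deg hA (a := 78)
      (H424.DegTools.charDegrees_of_surjective (e.trans f).toMonoidHom (e.trans f).surjective H678.DG.Tits.deg_78)
    exact Nat.mod_eq_zero_of_dvd (((by norm_num : 13 ∣ 78).trans h13).trans (hP d hd).2)
  · rcases two_deg hA (H489.card_out_tits hs) (H740.Eight.Tits.mem_27 hs) with h | h
    · rw [(hP _ h).1] at h1
      exact absurd h1 (by decide)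
    · rw [(hP _ h).1] at h2
      exact absurd h2 (by decide)

end

/-- the whole test for Lie type and the Tits group -/
def soc1Test (N : ℕ) (P : ℕ → Bool) (fac : List (ℕ × ℕ)) : Bool :=
  facTest N fac && lieTest P fac && titsTest N P

/-- **SOC1**, numerical form -/
theorem soc1_num (hkn : ∀ (T : Type u) [Group T] [Finite T] [IsSimpleGroup T], IsKnownSimple' T)
    {X : Type v} [Group X] [Finite X] [IsSimpleGroup X] (hX : IsSporadicGroup X) {c : ℕ} {D : Set ℕ}
    (hD : Deg c X D) (h2 : 2 ∉ D) {N : ℕ} {P : ℕ → Bool} (hn : Num D N P) {fac : List (ℕ × ℕ)}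
    (hpr : ∀ x ∈ fac, x.1.Prime) (ht : soc1Test N P fac = true)
    (hspor : ∀ (A : Type u) [Group A] [Finite A] (S : Subgroup A), AlmostSimple A S →
      (∀ d ∈ charDegrees A, P d = true ∧ d ∣ N) → IsSporadicGroup S → Nonempty (S ≃* X)) : Soc1.{u} D X := by
  rw [soc1Test, Bool.and_eq_true, Bool.and_eq_true] at ht
  obtain ⟨⟨hf, hl⟩, ht⟩ := ht
  have key : ∀ (A : Type u) [Group A] [Finite A], charDegrees A ⊆ D → ∀ d ∈ charDegrees A, P d = true ∧ d ∣ N := by
    intro A _ _ h d hd
    exact ⟨hn.ok (h hd), hn.dvd (h hd)⟩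
  have halt : ∀ (A : Type u) [Group A] [Finite A] (S : Subgroup A), AlmostSimple A S → charDegrees A ⊆ D →
      IsAlternating S → Nonempty (S ≃* X) := by
    intro A _ _ S hA h hs
    exact absurd hs (H245.S8.no_alt hX hD hA h)
  have hlie : ∀ (A : Type u) [Group A] [Finite A] (S : Subgroup A), AlmostSimple A S → charDegrees A ⊆ D →
      ∀ p : ℕ, p.Prime → IsLieTypeChar p S → False := by
    intro A _ _ S hA h p hp hs
    exact H690.S8.lie_none (fun p a hp ha => no_pp hn h2 hpr hf hl hp ha) hA h hp hs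
  have htits : ∀ (A : Type u) [Group A] [Finite A] (S : Subgroup A), AlmostSimple A S → charDegrees A ⊆ D →
      Lie.IsoTits S → Nonempty (S ≃* X) := by
    intro A _ _ S hA h hs
    exact (tits_false hA (key A h) ht hs).elim
  have hsp : ∀ (A : Type u) [Group A] [Finite A] (S : Subgroup A), AlmostSimple A S → charDegrees A ⊆ D →
      IsSporadicGroup S → Nonempty (S ≃* X) := by
    intro A _ _ S hA h hs
    exact hspor A S hA (key A h) hs
  exact @H690.S8.soc1_of D X _ hkn halt hlie htits hsp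

/-- `c = 1` -/
theorem soc1_one_of (hkn : ∀ (T : Type u) [Group T] [Finite T] [IsSimpleGroup T], IsKnownSimple' T)
    {X : Type v} [Group X] [Finite X] [IsSimpleGroup X] (hna : ¬ IsMulCommutative X) (hX : IsSporadicGroup X)
    {N : ℕ} {P : ℕ → Bool} (h : Num (charDegrees X) N P) {fac : List (ℕ × ℕ)}
    (hpr : ∀ x ∈ fac, x.1.Prime) (ht : soc1Test N (P1 N P) fac = true)
    (hspor : ∀ (A : Type u) [Group A] [Finite A] (S : Subgroup A), AlmostSimple A S →
      (∀ d ∈ charDegrees A, P1 N P d = true ∧ d ∣ N) → IsSporadicGroup S → Nonempty (S ≃* X)) {D : Set ℕ}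
    (hD : Deg 1 X D) : Soc1.{u} D X := by
  obtain rfl : D = charDegrees X := hD.resolve_right fun h => absurd h.1 (by norm_num)
  exact @soc1_num hkn X _ _ _ hX 1 _ hD (H681.SimpleChar.degree_ne_two fun h => hna ⟨⟨h⟩⟩) N _ h.one fac hpr ht hspor

/-- `c = 2` -/
theorem soc1_two_of (hkn : ∀ (T : Type u) [Group T] [Finite T] [IsSimpleGroup T], IsKnownSimple' T)
    {X : Type v} [Group X] [Finite X] [IsSimpleGroup X] (hna : ¬ IsMulCommutative X) (hX : IsSporadicGroup X)
    {N : ℕ} {P : ℕ → Bool} (h : Num (charDegrees X) N P) (hi : (MulAut.conj : X →* MulAut X).range.index ≤ 2)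
    {fac : List (ℕ × ℕ)} (hpr : ∀ x ∈ fac, x.1.Prime) (ht : soc1Test (2 * N) (P2 N P) fac = true)
    (hspor : ∀ (A : Type u) [Group A] [Finite A] (S : Subgroup A), AlmostSimple A S →
      (∀ d ∈ charDegrees A, P2 N P d = true ∧ d ∣ 2 * N) → IsSporadicGroup S → Nonempty (S ≃* X)) {D : Set ℕ}
    (hD : Deg 2 X D) : Soc1.{u} D X :=
  @soc1_num hkn X _ _ _ hX 2 _ hD (two_notMem_deg hna le_rfl hi hD) (2 * N) _ (h.deg2 hi hD) fac hpr ht hspor

end Cfsg.Agent.H515.S8
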